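import Cfsg.Agent.Lib.FischerTypes.TypeTwentyTwo
import Cfsg.Agent.Lib.TypeM22.Facts

/-!
What the statements about type M(22) ask of a copy of Fi22.
-/

set_option autoImplicit false
set_option linter.style.haveILetI false

namespace CfsgLib.FischerAut

open Cfsg Cfsg.Spor
open CfsgLib.HePres (K4)
open CfsgLib.Fi22Pres (gen subA)
open CfsgLib.ThreeTransp.Relations (nbr)

/-- an involution with a quasisimple centraliser over U6(2), not weakly closed in it -/
def InvolFact (Γ : Type*) [Group Γ] : Prop :=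
  ∃ d' : Γ, orderOf d' = 2 ∧ IsQuasisimple ↥(Subgroup.centralizer ({d'} : Set Γ)) ∧
    (∃ (K : Type) (_ : Field K) (_ : Fintype K), Fintype.card K = 4 ∧
      ∃ _ : ((Subgroup.zpowers d').subgroupOf (Subgroup.centralizer ({d'} : Set Γ))).Normal,
        Nonempty (↥(Subgroup.centralizer ({d'} : Set Γ)) ⧸
          (Subgroup.zpowers d').subgroupOf (Subgroup.centralizer ({d'} : Set Γ)) ≃* Cfsg.PSU 6 K 2)) ∧
    ∃ g, g * d' * g⁻¹ ∈ Subgroup.centralizer ({d'} : Set Γ) ∧ g * d' * g⁻¹ ≠ d'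

theorem zpowers_normal {Γ : Type*} [Group Γ] (x : Γ) :
    ((Subgroup.zpowers x).subgroupOf (Subgroup.centralizer ({x} : Set Γ))).Normal := by
  refine ⟨fun n hn g => ?_⟩
  rw [Subgroup.mem_subgroupOf] at hn ⊢
  obtain ⟨k, hk⟩ := hn
  have hc : Commute (g : Γ) x := Subgroup.mem_centralizer_singleton_iff.mp g.2
  exact ⟨k, by
    show x ^ k = (g : Γ) * (n : Γ) * (g : Γ)⁻¹
    rw [← hk, (hc.zpow_right k).eq, mul_inv_cancel_right]⟩

theorem invol_fact {Γ : Type*} [Group Γ] [Finite Γ] (e : Fi22 ≃* Γ) : InvolFact Γ := by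
  haveI := Fact.mk Nat.prime_two
  obtain ⟨-, -, -, -, hf⟩ := TypeM22.facts_of_iso e (D := e '' Fi22USix.transClass) rfl
  obtain ⟨hcl, -, hqs, -⟩ := hf _ (Set.mem_image_of_mem e (mem_conjugatesOf_self (a := gen 0)))
  rw [hcl] at hqs
  refine ⟨e (gen 0), ?_, hqs, ⟨K4, inferInstance, inferInstance, HePres.K4.card_eq, zpowers_normal _, ?_⟩, ?_⟩
  · rw [MulEquiv.orderOf_eq]
    exact orderOf_eq_prime (by rw [pow_two]; exact Fi22Pres.first_facts.1) Fi22Pres.first_facts.2
  · obtain ⟨-, ⟨q⟩, -⟩ := Fi22USix.subA_cover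
    have hC : subA.map e.toMonoidHom = Subgroup.centralizer ({e (gen 0)} : Set Γ) := by
      rw [← Fi22USix.centralizer_central]
      ext y
      rw [Subgroup.mem_map_equiv, Subgroup.mem_centralizer_singleton_iff, Subgroup.mem_centralizer_singleton_iff,
        ← e.injective.eq_iff, map_mul, map_mul, e.apply_symm_apply]
    let ε : ↥subA ≃* ↥(Subgroup.centralizer ({e (gen 0)} : Set Γ)) :=
      (subA.equivMapOfInjective e.toMonoidHom e.injective).trans (MulEquiv.subgroupCongr hC)
    haveI := zpowers_normal (e (gen 0))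
    refine ⟨(QuotientGroup.congr _ _ ε ?_).symm.trans q⟩
    rw [TypeM22.center_subA]
    ext y
    obtain ⟨w, rfl⟩ := ε.surjective y
    rw [show (↑ε : _ →* _) = ε.toMonoidHom from rfl, show ε w = ε.toMonoidHom w from rfl,
      Subgroup.mem_map_iff_mem ε.injective, Subgroup.mem_subgroupOf, Subgroup.mem_subgroupOf,
      show ((ε.toMonoidHom w : _) : Γ) = e.toMonoidHom (w : Fi22) from rfl,
      show e (gen 0) = e.toMonoidHom (gen 0) from rfl, ← MonoidHom.map_zpowers]
    exact (Subgroup.mem_map_iff_mem e.injective).symm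
  · obtain ⟨hm, hne, hc⟩ := TypeM22.gen_mem_nbr (k := 2) (by norm_num) le_rfl
    obtain ⟨g, hg⟩ := isConj_iff.mp (hm : IsConj (gen 0) (gen 2))
    refine ⟨e g, ?_, ?_⟩
    · rw [← map_inv, ← map_mul, ← map_mul, hg, Subgroup.mem_centralizer_singleton_iff]
      exact ((hc.symm).map e.toMonoidHom).eq
    · rw [← map_inv, ← map_mul, ← map_mul, hg, e.injective.ne_iff]
      exact hne

theorem type22 {Γ : Type*} [Group Γ] [Finite Γ] (e : Fi22 ≃* Γ) :
    ∃ E : Set Γ, IsThreeTranspositionClass E ∧ IsOfTypeM22 Γ E :=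
  ⟨e '' Fi22USix.transClass,
    ThreeTransp.class_image e.toMonoidHom e.surjective Fi22USix.transClass_three
      (fun x hx h => by
        have h1 : x = 1 := (EmbeddingLike.map_eq_one_iff (f := e)).1 h
        have h2 := Fi22USix.transClass_three.1.1 x hx
        rw [h1, orderOf_one] at h2
        norm_num at h2),
    FischerTypes.typeM22_map e _ FischerTypes.fi22_type⟩

end CfsgLib.FischerAut
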