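import Cfsg.Agent.Lib.FischerAut.Outer
import Cfsg.Agent.Lib.FischerAut.Fi22Type
import Cfsg.Agent.Lib.Layer.Basic

/-!
The shape of the centraliser of a noncentral involution from the form the statement gives it in.
-/

set_option autoImplicit false
set_option linter.style.haveILetI false

namespace CfsgLib.FischerAut

open Cfsg.Spor (Fi22)

/-- the centraliser of `t` modulo `⟨t⟩` is Aut Fi22 with quasisimple part of index two -/
def TransData {G : Type*} [Group G] (t : G) : Prop :=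
  ∃ K : Subgroup ↥(Subgroup.centralizer ({t} : Set G)), Cfsg.IsQuasisimple ↥K ∧ K.index = 2 ∧
    (∃ h : t ∈ Subgroup.centralizer ({t} : Set G), (⟨t, h⟩ : ↥(Subgroup.centralizer ({t} : Set G))) ∈ K) ∧
    ∃ _ : ((Subgroup.zpowers t).subgroupOf (Subgroup.centralizer ({t} : Set G))).Normal,
      Nonempty (↥(Subgroup.centralizer ({t} : Set G)) ⧸ (Subgroup.zpowers t).subgroupOf
        (Subgroup.centralizer ({t} : Set G)) ≃* MulAut Fi22)

theorem comm_inn (A B : MulAut Fi22) : A * B * A⁻¹ * B⁻¹ ∈ (MulAut.conj : Fi22 →* MulAut Fi22).range := by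
  have hi := CfsgLib.Fi22Pres.inner_index
  rw [Subgroup.mul_mem_iff_of_index_two hi, Subgroup.mul_mem_iff_of_index_two hi,
    Subgroup.mul_mem_iff_of_index_two hi, inv_mem_iff, inv_mem_iff]
  tauto

variable {X : Type*} [Group X] {G₀ : Subgroup X} {e : ↥G₀}

theorem Shape.comm_mem {K : Subgroup ↥G₀} (S : Shape e K) {a b : ↥G₀} (ha : Commute a e) (hb : Commute b e) :
    a * b * a⁻¹ * b⁻¹ ∈ K := by
  obtain ⟨π, -, -, hK⟩ := S.quot
  let a' : ↥(Subgroup.centralizer ({e} : Set ↥G₀)) := ⟨a, Subgroup.mem_centralizer_singleton_iff.mpr ha.eq⟩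
  let b' : ↥(Subgroup.centralizer ({e} : Set ↥G₀)) := ⟨b, Subgroup.mem_centralizer_singleton_iff.mpr hb.eq⟩
  refine (hK (a' * b' * a'⁻¹ * b'⁻¹)).mpr ?_
  simp only [map_mul, map_inv]
  exact comm_inn _ _

theorem Shape.perfect_le {K L : Subgroup ↥G₀} (S : Shape e K) (hL : ⁅L, L⁆ = L) (hc : ∀ l ∈ L, Commute l e) :
    L ≤ K := by
  rw [← hL, Subgroup.commutator_le]
  exact fun a ha b hb => S.comm_mem (hc a ha) (hc b hb)

theorem self_commutator {G : Type*} [Group G] (H : Subgroup G) (hp : Group.IsPerfect ↥H) : ⁅H, H⁆ = H :=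
  (Subgroup.map_subtype_commutator H).symm.trans (by
    rw [hp.commutator_eq_top, ← MonoidHom.range_eq_map, Subgroup.range_subtype])

theorem TransData.shape (h : TransData e) : ∃ K : Subgroup ↥G₀, Shape e K ∧ Cfsg.IsQuasisimple ↥K := by
  obtain ⟨K, hq, hi, ⟨he, hmem⟩, hn, ⟨f⟩⟩ := h
  let π : ↥(Subgroup.centralizer ({e} : Set ↥G₀)) →* MulAut Fi22 :=
    f.toMonoidHom.comp (QuotientGroup.mk' _)
  have hs : Function.Surjective π := f.surjective.comp (QuotientGroup.mk'_surjective _)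
  have h1 : ∀ a : ↥(Subgroup.centralizer ({e} : Set ↥G₀)), π a = 1 ↔ (a : ↥G₀) ∈ Subgroup.zpowers e := by
    intro a
    show f (QuotientGroup.mk' _ a) = 1 ↔ _
    rw [MulEquiv.map_eq_one_iff, QuotientGroup.mk'_apply, QuotientGroup.eq_one_iff, Subgroup.mem_subgroupOf]
  have hperf : ⁅K, K⁆ = K := self_commutator K hq.1
  have hle : K ≤ ((MulAut.conj : Fi22 →* MulAut Fi22).range).comap π := by
    rw [← hperf, Subgroup.commutator_le]
    intro a _ b _
    show π (a * b * a⁻¹ * b⁻¹) ∈ (MulAut.conj : Fi22 →* MulAut Fi22).range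
    simp only [map_mul, map_inv]
    exact comm_inn _ _
  have hK : K = ((MulAut.conj : Fi22 →* MulAut Fi22).range).comap π := by
    refine le_antisymm hle (Subgroup.relIndex_eq_one.mp ?_)
    have h2 := Subgroup.relIndex_mul_index hle
    rw [Subgroup.index_comap_of_surjective _ hs, CfsgLib.Fi22Pres.inner_index, hi] at h2
    omega
  refine ⟨K.map (Subgroup.centralizer ({e} : Set ↥G₀)).subtype, ⟨?_, ⟨_, hmem, rfl⟩, ?_, ?_, π, hs, h1, ?_⟩, ?_⟩
  · rintro _ ⟨a, -, rfl⟩
    exact Subgroup.mem_centralizer_singleton_iff.mp a.2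
  · rw [← Subgroup.map_commutator, hperf]
  · intro a b ha hb hna hnb
    refine ⟨⟨a, Subgroup.mem_centralizer_singleton_iff.mpr ha.eq⟩ * ⟨b, Subgroup.mem_centralizer_singleton_iff.mpr hb.eq⟩,
      ?_, rfl⟩
    exact (Subgroup.mul_mem_iff_of_index_two hi).mpr
      ⟨fun h' => absurd ⟨_, h', rfl⟩ hna, fun h' => absurd ⟨_, h', rfl⟩ hnb⟩
  · intro a
    constructor
    · rintro ⟨b, hb, eb⟩
      obtain rfl : b = a := Subtype.ext eb
      exact hle hb
    · intro ha
      exact ⟨a, hK ▸ (ha : a ∈ ((MulAut.conj : Fi22 →* MulAut Fi22).range).comap π), rfl⟩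
  · exact CfsgLib.Layer.isQuasisimple_of_mulEquiv
      (K.equivMapOfInjective _ (Subgroup.subtype_injective _)) hq

end CfsgLib.FischerAut
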