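import Cfsg.Agent.Lib.FischerAut.Four
import Cfsg.Agent.Lib.FischerAut.Data

/-!
The outer involution whose centraliser in the index two subgroup is of type M(23).
-/

set_option autoImplicit false
set_option linter.style.haveILetI false
set_option maxRecDepth 100000

namespace CfsgLib.FischerAut

open CfsgLib.LargeFischer CfsgLib.Extraspecial CfsgLib.FischerFour
open CfsgLib.Fi22USix (V6 el code vec)
open CfsgLib.HePres (K4)
open Cfsg.Spor (Fi22)

/-- a point of an involution in an affine line pair -/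
theorem pick {G : Type*} [Group G] {du dw t u : G} (htt : t * t = 1) (huu : u * u = 1) (htu : t * u = u * t)
    (hε : du⁻¹ * dw = 1 ∨ du⁻¹ * dw = t ∨ du⁻¹ * dw = u ∨ du⁻¹ * dw = t * u) :
    (du = dw ∨ du = dw * (t * u)) ∨ (du * u = dw ∨ du * u = dw * (t * u)) := by
  rcases hε with h | h | h | h <;> replace h := inv_mul_eq_iff_eq_mul.mp h <;> subst h
  · exact Or.inl (Or.inl (mul_one du).symm)
  · refine Or.inr (Or.inr ?_)
    rw [mul_assoc, ← mul_assoc t t u, htt, one_mul]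
  · exact Or.inr (Or.inl rfl)
  · refine Or.inl (Or.inr ?_)
    rw [mul_assoc, show t * u * (t * u) = 1 by rw [mul_assoc, ← mul_assoc u t, ← htu, mul_assoc t u, huu, mul_one, htt],
      mul_one]

variable {X : Type*} [Group X] [Finite X] {G₀ : Subgroup X} {z : ↥G₀} {Q : Subgroup (CZ z)}

/-- an outer involution centralising the centraliser of a noncentral involution forces a transvection -/
theorem not_hyperplane [G₀.Normal] (hS : Setting (QG Q) z)
    (hFX : (Cfsg.generalizedFittingSubgroup ↥(Subgroup.centralizer ({(z : X)} : Set X))).map (Subgroup.subtype _) =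
      (QG Q).map G₀.subtype)
    {d : X} (hd2 : d * d = 1) (hdG : d ∉ G₀) (hdz : Commute d (z : X)) {u : ↥G₀} (hu : u ∈ QG Q)
    (huu : u * u = 1) (hu1 : u ≠ 1) (huz : u ≠ z) (hdu : Commute d (u : X)) :
    ¬ ∀ g : ↥G₀, Commute g u → Commute d (g : X) := by
  intro hall
  have hz : ∀ e : X, e ∉ G₀ → Commute e (z : X) → (∀ q ∈ QG Q, Commute e (q : X)) → False := by
    intro e heG hez hq
    have h1 : (⟨e, Subgroup.mem_centralizer_singleton_iff.mpr hez.eq⟩ : ↥(Subgroup.centralizer ({(z : X)} : Set X))) ∈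
        Subgroup.centralizer (Cfsg.generalizedFittingSubgroup ↥(Subgroup.centralizer ({(z : X)} : Set X)) :
          Set ↥(Subgroup.centralizer ({(z : X)} : Set X))) := by
      rw [Subgroup.mem_centralizer_iff]
      intro a ha
      refine Subtype.ext ?_
      obtain ⟨q, hqq, eq⟩ : (a : X) ∈ (QG Q).map G₀.subtype := hFX ▸ ⟨a, ha, rfl⟩
      show (a : X) * e = e * a
      rw [← eq]
      exact (hq q hqq).eq.symm
    have h2 : e ∈ (QG Q).map G₀.subtype := by
      rw [← hFX]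
      exact ⟨_, CfsgLib.Layer.centralizer_generalizedFitting_le h1, rfl⟩
    obtain ⟨q, -, rfl⟩ := h2
    exact heG q.2
  obtain ⟨q, hq, hqu⟩ := hS.exists_move hu hu1 huz
  have hsplit : ∀ x ∈ QG Q, Commute x u ∨ ∃ y ∈ QG Q, Commute y u ∧ x = q * y := by
    intro x hx
    rcases hS.comm_cases hx hu with e | e
    · exact Or.inl (mul_inv_eq_iff_eq_mul.mp e)
    · refine Or.inr ⟨q⁻¹ * x, mul_mem (inv_mem hq) hx, ?_, (mul_inv_cancel_left q x).symm⟩
      refine mul_inv_eq_iff_eq_mul.mp ?_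
      calc q⁻¹ * x * u * (q⁻¹ * x)⁻¹ = q⁻¹ * (x * u * x⁻¹) * q := by group
        _ = q⁻¹ * (q * u * q⁻¹) * q := by rw [e, hqu]
        _ = u := by group
  -- the image of `q`
  have hdq : d * (q : X) * d⁻¹ ∈ (QG Q).map G₀.subtype := by
    rw [← hFX]
    obtain ⟨a, ha, ea⟩ : (q : X) ∈ (Cfsg.generalizedFittingSubgroup
        ↥(Subgroup.centralizer ({(z : X)} : Set X))).map (Subgroup.subtype _) := hFX ▸ ⟨q, hq, rfl⟩
    refine ⟨⟨d, Subgroup.mem_centralizer_singleton_iff.mpr hdz.eq⟩ * a *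
      ⟨d, Subgroup.mem_centralizer_singleton_iff.mpr hdz.eq⟩⁻¹,
      (CfsgLib.Layer.generalizedFitting_normal).conj_mem a ha _, ?_⟩
    show d * (a : X) * d⁻¹ = _
    rw [show (a : X) = q from ea]
  obtain ⟨p, hp, ep⟩ := hdq
  replace ep : (p : X) = d * q * d⁻¹ := ep
  obtain ⟨a, rfl⟩ : ∃ a, p = q * a := ⟨q⁻¹ * p, (mul_inv_cancel_left q p).symm⟩
  have ha : a ∈ QG Q := by
    have := mul_mem (inv_mem hq) hp
    rwa [inv_mul_cancel_left] at this
  have hac : ∀ x ∈ QG Q, Commute x u → Commute a x := by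
    intro x hx hxu
    have hdx := hall x hxu
    refine (mul_inv_eq_iff_eq_mul.mp ?_ : a * x = x * a)
    have e1 : ((q * a * x * (q * a)⁻¹ : ↥G₀) : X) = ((q * x * q⁻¹ : ↥G₀) : X) := by
      push_cast [Subgroup.coe_mul, Subgroup.coe_inv] at ep ⊢
      rw [ep]
      rcases hS.comm_cases hq hx with e | e
      · calc d * q * d⁻¹ * x * (d * q * d⁻¹)⁻¹ = d * ((q : X) * (d⁻¹ * x * d) * (q : X)⁻¹) * d⁻¹ := by group
          _ = d * ((q : X) * x * (q : X)⁻¹) * d⁻¹ := by rw [hdx.inv_left.eq]; group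
          _ = _ := by
            have e' : (q : X) * x * (q : X)⁻¹ = x := congrArg Subtype.val e
            rw [e', hdx.eq, mul_inv_cancel_right]
      · calc d * q * d⁻¹ * x * (d * q * d⁻¹)⁻¹ = d * ((q : X) * (d⁻¹ * x * d) * (q : X)⁻¹) * d⁻¹ := by group
          _ = d * ((q : X) * x * (q : X)⁻¹) * d⁻¹ := by rw [hdx.inv_left.eq]; group
          _ = _ := by
            have e' : (q : X) * x * (q : X)⁻¹ = z * x := congrArg Subtype.val e
            rw [e', (hdz.mul_right hdx).eq, mul_inv_cancel_right]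
    have e2 : q * a * x * (q * a)⁻¹ = q * x * q⁻¹ := Subtype.ext e1
    calc a * x * a⁻¹ = q⁻¹ * (q * a * x * (q * a)⁻¹) * q := by group
      _ = x := by rw [e2]; group
  -- `a` is in the radical of the hyperplane
  have hcases : a = 1 ∨ a = z ∨ a = u ∨ a = z * u := by
    by_cases haq : Commute a q
    · have hall' : ∀ x ∈ QG Q, x * a = a * x := fun x hx => by
        rcases hsplit x hx with h | ⟨y, hy, hyu, rfl⟩
        · exact (hac x hx h).eq.symm
        · exact (haq.mul_right (hac y hy hyu)).eq.symm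
      rcases hS.eq_of_forall ha hall' with e | e
      · exact Or.inl e
      · exact Or.inr (Or.inl e)
    · have hau : Commute (a * u) q := by
        have e1 : q * a * q⁻¹ = z * a := (hS.comm_cases hq ha).resolve_left fun e =>
          haq (mul_inv_eq_iff_eq_mul.mp e : q * a = a * q).symm
        refine (Commute.symm (mul_inv_eq_iff_eq_mul.mp ?_ : q * (a * u) = a * u * q))
        calc q * (a * u) * q⁻¹ = (q * a * q⁻¹) * (q * u * q⁻¹) := by group
          _ = _ := by rw [e1, hqu, ← mul_assoc, mul_assoc z a z, hS.z_comm ha, ← mul_assoc z z, hS.zz, one_mul]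
      have hall' : ∀ x ∈ QG Q, x * (a * u) = a * u * x := fun x hx => by
        have hcu : ∀ w, Commute w u → w ∈ QG Q → Commute (a * u) w := fun w h hw => (hac w hw h).mul_left h.symm
        rcases hsplit x hx with h | ⟨y, hy, hyu, rfl⟩
        · exact (hcu x h hx).eq.symm
        · exact (hau.mul_right (hcu y hyu hy)).eq.symm
      rcases hS.eq_of_forall (mul_mem ha hu) hall' with e | e
      · refine Or.inr (Or.inr (Or.inl ?_))
        rw [eq_inv_of_mul_eq_one_left e, inv_eq_of_mul_eq_one_right huu]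
      · refine Or.inr (Or.inr (Or.inr ?_))
        rw [← e, mul_assoc, huu, mul_one]
  have hconj : ∀ x ∈ QG Q, Commute x u → d * (x : X) * d⁻¹ = x := fun x _ hxu => by
    rw [(hall x hxu).eq, mul_inv_cancel_right]
  have hbad : ∀ w : ↥G₀, w = u ∨ w = z * u → ((q * w * (q * w) : ↥G₀) : X) = (q : X) * q → False := by
    intro w hw hsq
    have e : q * w * (q * w) = q * q := Subtype.ext hsq
    rw [mul_assoc, mul_left_cancel_iff] at e
    have e1 : q * w * q⁻¹ = w⁻¹ := by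
      calc q * w * q⁻¹ = w⁻¹ * (w * (q * w)) * q⁻¹ := by group
        _ = w⁻¹ := by rw [e]; group
    have hzu : (z * u)⁻¹ = z * u := inv_eq_of_mul_eq_one_right (by
      rw [mul_assoc, ← mul_assoc u z, hS.z_comm hu, mul_assoc z u u, huu, mul_one, hS.zz])
    have hu' : u⁻¹ = u := inv_eq_of_mul_eq_one_right huu
    rcases hw with rfl | rfl
    · rw [hqu, hu'] at e1
      exact hS.ne_one (mul_eq_right.mp e1)
    · rw [hzu, show q * (z * u) * q⁻¹ = (q * z * q⁻¹) * (q * u * q⁻¹) by group, hqu, hS.z_comm hq,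
        mul_inv_cancel_right, ← mul_assoc, hS.zz, one_mul] at e1
      exact hS.ne_one (mul_eq_right.mp e1.symm)
  have hqq : ((q * a * (q * a) : ↥G₀) : X) = (q : X) * q := by
    have e1 : d * ((q : X) * q) * d⁻¹ = (q : X) * q := by
      rcases hS.sq_cases hq with e | e
      · rw [show (q : X) * q = 1 from congrArg Subtype.val e, mul_one, mul_inv_cancel]
      · rw [show (q : X) * q = z from congrArg Subtype.val e, hdz.eq, mul_inv_cancel_right]
    rw [Subgroup.coe_mul, ep, ← e1]; group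
  rcases hcases with e0 | e0 | e0 | e0 <;> rw [e0] at ep hqq
  · refine hz d hdG hdz fun x hx => ?_
    rcases hsplit x hx with h | ⟨y, hy, hyu, rfl⟩
    · exact hall x h
    · rw [mul_one] at ep
      have hdq : Commute d (q : X) := mul_inv_eq_iff_eq_mul.mp ep.symm
      exact hdq.mul_right (hall y hyu)
  · refine hz (d * (u : X)) (fun h => hdG ?_)
      (hdz.mul_left (congrArg Subtype.val (hS.z_comm hu) : (u : X) * z = z * u)) fun x hx => ?_
    · have := G₀.mul_mem h (G₀.inv_mem u.2)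
      rwa [mul_inv_cancel_right] at this
    · have hxu : ∀ w, Commute w u → Commute (d * (u : X)) (w : X) := fun w hw =>
        (hall w hw).mul_left (congrArg Subtype.val hw.eq.symm : (u : X) * w = w * u)
      rcases hsplit x hx with h | ⟨y, hy, hyu, rfl⟩
      · exact hxu x h
      · refine Commute.mul_right (mul_inv_eq_iff_eq_mul.mp ?_) (hxu y hyu)
        have e1 : u * q * u⁻¹ = z * q := (hS.comm_cases hu hq).resolve_left fun e => hS.ne_one (by
          have e2 : q * u * q⁻¹ = u := by rw [← (mul_inv_eq_iff_eq_mul.mp e), mul_inv_cancel_right]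
          exact mul_eq_right.mp (hqu.symm.trans e2))
        calc d * (u : X) * q * (d * (u : X))⁻¹ = d * ((u : X) * q * (u : X)⁻¹) * d⁻¹ := by group
          _ = d * ((z : X) * q) * d⁻¹ := by rw [show (u : X) * q * (u : X)⁻¹ = z * q from congrArg Subtype.val e1]
          _ = (d * z * d⁻¹) * (d * q * d⁻¹) := by group
          _ = (q : X) := by
            rw [hdz.eq, mul_inv_cancel_right, ← ep, Subgroup.coe_mul,
              show (z : X) * ((q : X) * z) = q from congrArg Subtype.val (show z * (q * z) = q by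
                rw [hS.z_comm hq, ← mul_assoc, hS.zz, one_mul])]
  · exact hbad _ (Or.inl rfl) hqq
  · exact hbad _ (Or.inr rfl) hqq

/-- the conclusion: the outer involution -/
structure Outer (G₀ : Subgroup X) (z : ↥G₀) (d : X) (u w : ↥G₀) (K : Subgroup ↥G₀) : Prop where
  out : d ∉ G₀
  sq : d * d = 1
  comm_z : Commute d (z : X)
  shape : Shape u K
  quasi : Cfsg.IsQuasisimple ↥K
  cent : ∀ g : ↥G₀, (Commute d (g : X) ∧ Commute g u) ↔ g ∈ K
  two : u * u = 1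
  ne : u ≠ 1
  mem_w : w ∈ K
  ne_w : w ≠ u
  conj : ∃ g : ↥G₀, Commute d (g : X) ∧ g * u * g⁻¹ = w
  rot : ∃ g : ↥G₀, g * u * g⁻¹ = u * w
  shape_w : ∃ Kw : Subgroup ↥G₀, Shape w Kw ∧ ∀ k ∈ Kw, Commute d (k : X)
  third : ∃ Kt : Subgroup ↥G₀, Shape (u * w) Kt ∧ Cfsg.IsQuasisimple ↥Kt ∧
    ((∀ k ∈ Kt, Commute d (k : X)) ∨
      ((∀ k ∈ Kt, Commute (d * (u : X)) (k : X)) ∧ ∀ k ∈ Kt, Commute (d * (w : X)) (k : X)))
  four : ∃ L : Subgroup ↥G₀, ⁅L, L⁆ = L ∧ u ∈ L ∧ w ∈ L ∧ (∀ l ∈ L, Commute l u ∧ Commute l w) ∧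
    Nat.card ↥L = 4 * Nat.card (Cfsg.PSU 6 CfsgLib.HePres.K4 2)

theorem exists_outer_d (G₀ : Subgroup X) (hidx : G₀.index = 2) (z : ↥G₀) (Q : Subgroup (CZ z)) [Q.Normal]
    (hF : Cfsg.IsOfLargeFischerTypeAt z Q)
    (hcentral : ∃ P : Sylow 2 ↥G₀, z ∈ (P : Subgroup ↥G₀) ∧ ∀ x ∈ (P : Subgroup ↥G₀), Commute x z)
    (hFX : (Cfsg.generalizedFittingSubgroup ↥(Subgroup.centralizer ({(z : X)} : Set X))).map (Subgroup.subtype _) =
      (QG Q).map G₀.subtype)
    (hT : ∀ t : CZ z, t ∈ Q → orderOf t = 2 → ¬ IsConj z (t : ↥G₀) → TransData (t : ↥G₀)) :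
    ∃ d u w K, Outer G₀ z d u w K := by
  classical
  haveI := Fact.mk Nat.prime_two
  haveI := Subgroup.normal_of_index_eq_two hidx
  obtain ⟨v, ρ, C, t, u, m, ht, hu, hvt, hvu, hmt, hmu, hmz, m1, m2, m3, m4⟩ := exists_mover Q hF
  have P : Pt C t u := ⟨ht, hu, hvt, hvu⟩
  have hM : Moved t u m := ⟨hmt, hmu, hmz, fun e he => by
    rcases P.mem_four.mp he with rfl | rfl | rfl | rfl
    · rwa [mul_one]
    · exact m2
    · exact m3
    · exact m4⟩
  have hex := exists_conjugate hF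
  obtain ⟨P2, hzP, hzc⟩ := hcentral
  obtain ⟨c, hcG, hcz⟩ := exists_outer_z hidx C.st P2 hzP hzc
  -- the three members
  have hne : ∀ a : CZ z, a ∈ Q → v a = v0 ∨ v a = w0 ∨ v a = v0 + w0 → (a : ↥G₀) ≠ 1 ∧ (a : ↥G₀) ≠ z := by
    intro a ha hva
    obtain ⟨-, n2, n3, -⟩ := w0_ne
    have h0 : v a ≠ 0 := by
      rcases hva with e | e | e <;> rw [e]
      exacts [v0_spec.2.2.1, n2, n3]
    exact ⟨fun e => h0 ((C.vzero a ha).mpr (Or.inl e)), fun e => h0 ((C.vzero a ha).mpr (Or.inr e))⟩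
  have hvw : v (t * u) = v0 + w0 := by rw [C.vmul t ht u hu, hvt, hvu]; rfl
  have hE1 : (t : ↥G₀) ∈ four t u := P.mem_four.mpr (Or.inr (Or.inl rfl))
  have hE2 : (u : ↥G₀) ∈ four t u := P.mem_four.mpr (Or.inr (Or.inr (Or.inl rfl)))
  have hE3 : (t : ↥G₀) * u ∈ four t u := mul_mem hE1 hE2
  have hsqE : ∀ a ∈ four t u, a * a = 1 := by
    intro a ha
    rcases P.mem_four.mp ha with rfl | rfl | rfl | rfl
    · exact mul_one 1
    · exact P.t_sq
    · exact P.u_sq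
    · rw [mul_assoc, ← mul_assoc (u : ↥G₀) t, ← P.tu, mul_assoc (t : ↥G₀) u u, P.u_sq, mul_one, P.t_sq]
  have hdata : ∀ a : CZ z, a ∈ Q → (a : ↥G₀) ∈ four t u → (a : ↥G₀) ≠ 1 →
      ∃ K d, Shape (a : ↥G₀) K ∧ Cfsg.IsQuasisimple ↥K ∧ d ∉ G₀ ∧ ∀ k ∈ K, Commute d (k : X) := by
    intro a ha haE ha1
    have hnc := (P.not_conj haE ha1).1
    have ho : orderOf a = 2 := by
      refine orderOf_eq_prime (Subtype.ext ?_) fun e => ha1 (by rw [e]; rfl)
      rw [pow_two]; exact hsqE _ haE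
    obtain ⟨K, hK, hKq⟩ := (hT a ha ho hnc).shape
    obtain ⟨c', hc', hc'a⟩ := exists_outer_t C hex hFX hcG hcz ha ho hnc
    obtain ⟨d, hd, hdK⟩ := hK.exists_outer (hsqE _ haE) hc' hc'a
    exact ⟨K, d, hK, hKq, hd, hdK⟩
  obtain ⟨Kt, dt, St, hKtq, hdt, hKt⟩ := hdata t ht hE1 (hne t ht (Or.inl hvt)).1
  obtain ⟨Ku, du, Su, hKuq, hdu, hKu⟩ := hdata u hu hE2 (hne u hu (Or.inr (Or.inl hvu))).1
  obtain ⟨Kw, dw, Sw, -, hdw, hKw⟩ := hdata (t * u) (mul_mem ht hu) hE3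
    (hne _ (mul_mem ht hu) (Or.inr (Or.inr hvw))).1
  -- the centraliser of the four group
  obtain ⟨L, hL⟩ : ∃ L, L = Subgroup.centralizer (four t u : Set ↥G₀) := ⟨_, rfl⟩
  have hLperf : ⁅L, L⁆ = L := hL ▸ self_commutator _ (P.quasisimple hM).1
  have hLc : ∀ a ∈ four t u, ∀ l ∈ L, Commute l a := fun a ha l hl =>
    (Subgroup.mem_centralizer_iff.mp (hL ▸ hl : l ∈ Subgroup.centralizer (four t u : Set ↥G₀)) a ha).symm
  have hEL : ∀ a ∈ four t u, a ∈ L := fun a ha => hL ▸ P.coe_cent ha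
  have hzL : z ∈ L := hL ▸ P.z_cent
  have hLt : L ≤ Kt := St.perfect_le hLperf (hLc _ hE1)
  have hLu : L ≤ Ku := Su.perfect_le hLperf (hLc _ hE2)
  have hLw : L ≤ Kw := Sw.perfect_le hLperf (hLc _ hE3)
  have hcenter : ∀ x : ↥G₀, (∀ l ∈ L, Commute x l) → x ∈ four t u := by
    intro x hx
    have hxL : x ∈ CF t u := P.mem_cent.mpr ⟨hx _ (hEL _ hE1), hx _ (hEL _ hE2)⟩
    haveI := NF_normal t u
    obtain ⟨e⟩ := P.exists_iso hM
    have h1 : QuotientGroup.mk' (NF t u) ⟨x, hxL⟩ ∈ Subgroup.center (↥(CF t u) ⧸ NF t u) := by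
      refine Subgroup.mem_center_iff.mpr fun a => ?_
      obtain ⟨a, rfl⟩ := QuotientGroup.mk'_surjective _ a
      rw [← map_mul, ← map_mul]
      exact congrArg _ (Subtype.ext (hx a (hL ▸ a.2)).eq.symm)
    have h2 : e (QuotientGroup.mk' (NF t u) ⟨x, hxL⟩) ∈ Subgroup.center (Cfsg.PSU 6 K4 2) := by
      rw [Subgroup.mem_center_iff]
      intro a
      obtain ⟨a, rfl⟩ := e.surjective a
      rw [← map_mul, ← map_mul, Subgroup.mem_center_iff.mp h1 a]
    rw [CfsgLib.Fi22USix.psu_center, Subgroup.mem_bot, MulEquiv.map_eq_one_iff, QuotientGroup.mk'_apply,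
      QuotientGroup.eq_one_iff] at h2
    exact Subgroup.mem_subgroupOf.mp h2
  -- differences of the outer elements
  have hcoset : ∀ r r' : X, r ∉ G₀ → r' ∉ G₀ → (∀ l ∈ L, Commute r (l : X)) → (∀ l ∈ L, Commute r' (l : X)) →
      ∃ ε : ↥G₀, ε ∈ four t u ∧ r⁻¹ * r' = (ε : X) := by
    intro r r' hr hr' hrL hr'L
    have hm : r⁻¹ * r' ∈ G₀ := (Subgroup.mul_mem_iff_of_index_two hidx).mpr
      ⟨fun h => absurd (by simpa using h) hr, fun h => absurd h hr'⟩
    exact ⟨⟨_, hm⟩, hcenter _ fun l hl => Subtype.ext ((hrL l hl).inv_left.mul_left (hr'L l hl)).eq, rfl⟩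
  have hsquare : ∀ (a : CZ z) (K : Subgroup ↥G₀) (d : X), (a : ↥G₀) ∈ four t u → Shape (a : ↥G₀) K → d ∉ G₀ →
      (∀ k ∈ K, Commute d (k : X)) → d * d = 1 ∨ d * d = ((a : ↥G₀) : X) := by
    intro a K d ha S hd hK
    have hm : d * d ∈ G₀ := Subgroup.mul_self_mem_of_index_two hidx d
    rcases S.ord (hsqE _ ha) (S.cent (x := ⟨d * d, hm⟩) fun k hk => Subtype.ext ((hK k hk).mul_left (hK k hk)).eq)
      with e | e
    · exact Or.inl (congrArg Subtype.val e)
    · exact Or.inr (congrArg Subtype.val e)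
  have hcommL : ∀ {K : Subgroup ↥G₀} {d : X}, L ≤ K → (∀ k ∈ K, Commute d (k : X)) → ∀ l ∈ L, Commute d (l : X) :=
    fun hle h l hl => h l (hle hl)
  have hdE : ∀ {K : Subgroup ↥G₀} {d : X}, L ≤ K → (∀ k ∈ K, Commute d (k : X)) → ∀ a ∈ four t u,
      Commute d (a : X) := fun hle h a ha => h a (hle (hEL a ha))
  have hsame : ∀ r r' : X, r ∉ G₀ → r' ∉ G₀ → (∀ l ∈ L, Commute r (l : X)) → (∀ l ∈ L, Commute r' (l : X)) →
      r' * r' = r * r := by
    intro r r' hr hr' hrL hr'L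
    obtain ⟨ε, hε, e⟩ := hcoset r r' hr hr' hrL hr'L
    rw [inv_mul_eq_iff_eq_mul.mp e]
    have h1 : Commute r (ε : X) := hrL ε (hEL ε hε)
    calc r * (ε : X) * (r * ε) = r * r * ((ε : X) * ε) := by rw [h1.symm.mul_mul_mul_comm]
      _ = _ := by rw [show (ε : X) * ε = 1 from congrArg Subtype.val (hsqE ε hε), mul_one]
  have htu_ne : (t : ↥G₀) ≠ u := fun e => w0_ne.1 (by rw [← hvt, Subtype.ext e, hvu]; rfl)
  have hsq_u : du * du = 1 := by
    have e1 := hsquare t Kt dt hE1 St hdt hKt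
    have e2 := hsquare u Ku du hE2 Su hdu hKu
    have e3 := hsame dt du hdt hdu (hcommL hLt hKt) (hcommL hLu hKu)
    rcases e2 with e2 | e2
    · exact e2
    rcases e1 with e1 | e1
    · rw [e3, e1]
    · rw [e3, e1] at e2
      exact absurd (Subtype.ext e2) htu_ne
  have hsq_w : dw * dw = 1 := by rw [hsame du dw hdu hdw (hcommL hLu hKu) (hcommL hLw hKw), hsq_u]
  have hout : ∀ {d : X} (a : ↥G₀), d ∉ G₀ → d * (a : X) ∉ G₀ := fun a hd h => hd (by
    have := G₀.mul_mem h (G₀.inv_mem a.2)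
    rwa [mul_inv_cancel_right] at this)
  -- the common member
  obtain ⟨d, hd2, hdG, hdKu, hdKw⟩ : ∃ d : X, d * d = 1 ∧ d ∉ G₀ ∧ (∀ k ∈ Ku, Commute d (k : X)) ∧
      ∀ k ∈ Kw, Commute d (k : X) := by
    obtain ⟨ε, hε, e⟩ := hcoset du dw hdu hdw (hcommL hLu hKu) (hcommL hLw hKw)
    have hε' : du⁻¹ * dw = 1 ∨ du⁻¹ * dw = ((t : ↥G₀) : X) ∨ du⁻¹ * dw = ((u : ↥G₀) : X) ∨
        du⁻¹ * dw = ((t : ↥G₀) : X) * ((u : ↥G₀) : X) := by
      rw [e]
      rcases P.mem_four.mp hε with h | h | h | h <;> rw [h]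
      · exact Or.inl rfl
      · exact Or.inr (Or.inl rfl)
      · exact Or.inr (Or.inr (Or.inl rfl))
      · exact Or.inr (Or.inr (Or.inr rfl))
    have hp := pick (congrArg Subtype.val P.t_sq) (congrArg Subtype.val P.u_sq) (congrArg Subtype.val P.tu) hε'
    have hwk : ∀ {x : X}, x = dw ∨ x = dw * (((t : ↥G₀) : X) * ((u : ↥G₀) : X)) → ∀ k ∈ Kw, Commute x (k : X) := by
      rintro x (rfl | rfl) k hk
      · exact hKw k hk
      · exact (hKw k hk).mul_left (congrArg Subtype.val (Sw.le k hk).eq.symm :)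
    rcases hp with hp | hp
    · exact ⟨du, hsq_u, hdu, hKu, hwk hp⟩
    · refine ⟨du * ((u : ↥G₀) : X), ?_, hout _ hdu, fun k hk => (hKu k hk).mul_left
        (congrArg Subtype.val (Su.le k hk).eq.symm :), hwk hp⟩
      rw [(hdE hLu hKu _ hE2).symm.mul_mul_mul_comm, hsq_u, one_mul]
      exact congrArg Subtype.val P.u_sq
  have hdz : Commute d (z : X) := hdKu z (hLu hzL)
  have hu1 := hne u hu (Or.inr (Or.inl hvu))
  have hdu' : Commute d ((u : ↥G₀) : X) := hdE hLu hdKu _ hE2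
  have hnh := not_hyperplane C.st hFX hd2 hdG hdz (mem_QG hu) P.u_sq hu1.1 hu1.2 hdu'
  have hcent : ∀ g : ↥G₀, (Commute d (g : X) ∧ Commute g (u : ↥G₀)) ↔ g ∈ Ku := by
    intro g
    refine ⟨fun ⟨hg, hgu⟩ => ?_, fun hg => ⟨hdKu g hg, Su.le g hg⟩⟩
    by_contra hgK
    refine hnh fun a hau => ?_
    by_cases haK : a ∈ Ku
    · exact hdKu a haK
    · have h2 : Commute d ((g * a : ↥G₀) : X) := hdKu _ (Su.two g a hgu hau hgK haK)
      rw [Subgroup.coe_mul] at h2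
      have h3 := hg.inv_right.mul_right h2
      rwa [inv_mul_cancel_left] at h3
  -- the swap
  obtain ⟨s, hst, hsu⟩ := exists_swap P
  have hsw : s * ((t : ↥G₀) * u) * s⁻¹ = u := by
    calc s * ((t : ↥G₀) * u) * s⁻¹ = (s * t * s⁻¹) * (s * u * s⁻¹) := by group
      _ = _ := by rw [hst, hsu, ← mul_assoc, P.t_sq, one_mul]
  have hmove : ∀ (a b : ↥G₀) {Ka Kb : Subgroup ↥G₀}, Shape a Ka → Shape b Kb → s⁻¹ * b * s = a →
      ∀ k ∈ Kb, s⁻¹ * k * s ∈ Ka := by
    intro a b Ka Kb Sa Sb hab k hk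
    have hp : ⁅Kb.map (MulAut.conj s⁻¹).toMonoidHom, Kb.map (MulAut.conj s⁻¹).toMonoidHom⁆ =
        Kb.map (MulAut.conj s⁻¹).toMonoidHom := by rw [← Subgroup.map_commutator, Sb.perfect]
    have hle := Sa.perfect_le hp (fun l hl => by
      obtain ⟨k', hk', rfl⟩ := hl
      have h := (Sb.le k' hk').map (MulAut.conj s⁻¹).toMonoidHom
      rwa [show (MulAut.conj s⁻¹).toMonoidHom b = a by rw [← hab]; simp] at h)
    have := hle ⟨k, hk, rfl⟩
    simpa using this
  have hsuw : ∀ k ∈ Ku, s⁻¹ * k * s ∈ Kw := hmove _ _ Sw Su (by rw [← hsw, Subgroup.coe_mul]; group)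
  have hswu : ∀ k ∈ Kw, s⁻¹ * k * s ∈ Ku := hmove _ _ Su Sw (by rw [Subgroup.coe_mul, ← hsu]; group)
  obtain ⟨d', hd'⟩ : ∃ d', d' = (s : X) * d * (s : X)⁻¹ := ⟨_, rfl⟩
  have hconjK : ∀ {A B : Subgroup ↥G₀}, (∀ k ∈ A, s⁻¹ * k * s ∈ B) → (∀ k ∈ B, Commute d (k : X)) →
      ∀ k ∈ A, Commute d' (k : X) := by
    intro A B hAB hB k hk
    have h : Commute d (((s : X))⁻¹ * k * s) := hB _ (hAB k hk)
    have h' := (Commute.conj_iff (s : X)).mpr h
    rwa [← hd', show (s : X) * ((s : X)⁻¹ * k * s) * (s : X)⁻¹ = k by group] at h'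
  have hd'G : d' ∉ G₀ := fun h => hdG (by
    rw [hd'] at h
    have := G₀.mul_mem (G₀.mul_mem (G₀.inv_mem s.2) h) s.2
    rwa [show (s : X)⁻¹ * ((s : X) * d * (s : X)⁻¹) * s = d by group] at this)
  have hd'u := hconjK hsuw hdKw
  have hd'w := hconjK hswu hdKu
  have hds : Commute d (s : X) := by
    have hm : d⁻¹ * d' ∈ G₀ := (Subgroup.mul_mem_iff_of_index_two hidx).mpr
      ⟨fun h => absurd (by simpa using h) hdG, fun h => absurd h hd'G⟩
    have h1 := Su.ord P.u_sq (Su.cent (x := ⟨_, hm⟩) fun k hk =>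
      Subtype.ext ((hdKu k hk).inv_left.mul_left (hd'u k hk)).eq)
    have h2 := Sw.ord (hsqE _ hE3) (Sw.cent (x := ⟨_, hm⟩) fun k hk =>
      Subtype.ext ((hdKw k hk).inv_left.mul_left (hd'w k hk)).eq)
    have he : (⟨_, hm⟩ : ↥G₀) = 1 := by
      rcases h1 with e | e
      · exact e
      rcases h2 with e' | e'
      · exact e'
      · rw [e, Subgroup.coe_mul] at e'
        exact absurd (right_eq_mul.mp e') (hne t ht (Or.inl hvt)).1
    have e : d⁻¹ * d' = 1 := congrArg Subtype.val he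
    rw [inv_mul_eq_one, hd'] at e
    exact (mul_inv_eq_iff_eq_mul.mp e.symm).symm
  have huw : (u : ↥G₀) * ((t : ↥G₀) * u) = t := by
    rw [← mul_assoc, ← P.tu, mul_assoc, P.u_sq, mul_one]
  have hthird : (∀ k ∈ Kt, Commute d (k : X)) ∨ ((∀ k ∈ Kt, Commute (d * ((u : ↥G₀) : X)) (k : X)) ∧
      ∀ k ∈ Kt, Commute (d * (((t : ↥G₀) * u : ↥G₀) : X)) (k : X)) := by
    obtain ⟨ε, hε, e⟩ := hcoset dt d hdt hdG (hcommL hLt hKt) (hcommL hLu hdKu)
    replace e : d = dt * (ε : X) := inv_mul_eq_iff_eq_mul.mp e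
    have ht' : ∀ k ∈ Kt, Commute ((t : ↥G₀) : X) (k : X) := fun k hk => (congrArg Subtype.val (St.le k hk).eq.symm :)
    have htu' : (((t : ↥G₀) * u : ↥G₀) : X) = ((t : ↥G₀) : X) * ((u : ↥G₀) : X) := Subgroup.coe_mul _ _ _
    have htt : ((t : ↥G₀) : X) * ((t : ↥G₀) : X) = 1 := congrArg Subtype.val P.t_sq
    have huu : ((u : ↥G₀) : X) * ((u : ↥G₀) : X) = 1 := congrArg Subtype.val P.u_sq
    have htu2 : ((t : ↥G₀) : X) * ((u : ↥G₀) : X) = ((u : ↥G₀) : X) * ((t : ↥G₀) : X) := congrArg Subtype.val P.tu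
    rcases P.mem_four.mp hε with h | h | h | h <;> rw [h] at e
    · rw [OneMemClass.coe_one, mul_one] at e
      exact Or.inl (e ▸ hKt)
    · exact Or.inl fun k hk => e ▸ (hKt k hk).mul_left (ht' k hk)
    · refine Or.inr ⟨fun k hk => ?_, fun k hk => ?_⟩
      · rw [e, mul_assoc, huu, mul_one]; exact hKt k hk
      · rw [e, htu', htu2, mul_assoc dt, ← mul_assoc ((u : ↥G₀) : X), huu, one_mul]
        exact (hKt k hk).mul_left (ht' k hk)
    · refine Or.inr ⟨fun k hk => ?_, fun k hk => ?_⟩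
      · rw [e, htu', mul_assoc dt, mul_assoc ((t : ↥G₀) : X), huu, mul_one]
        exact (hKt k hk).mul_left (ht' k hk)
      · rw [e, htu', mul_assoc dt, show ((t : ↥G₀) : X) * ((u : ↥G₀) : X) * (((t : ↥G₀) : X) * ((u : ↥G₀) : X)) = 1
          from congrArg Subtype.val (hsqE _ hE3), mul_one]
        exact hKt k hk
  have hcard : Nat.card ↥L = 4 * Nat.card (Cfsg.PSU 6 K4 2) := by
    haveI := NF_normal t u
    obtain ⟨eU⟩ := P.exists_iso hM
    have hN : Nat.card ↥(NF t u) = 4 := by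
      rw [Nat.card_congr (Subgroup.subgroupOfEquivOfLe (fun a ha => P.coe_cent ha :
        four t u ≤ CF t u)).toEquiv]
      have h1 : (t : ↥G₀) ≠ 1 := (hne t ht (Or.inl hvt)).1
      have h2 : (u : ↥G₀) ≠ 1 := hu1.1
      have h3 : (t : ↥G₀) * u ≠ 1 := (hne _ (mul_mem ht hu) (Or.inr (Or.inr hvw))).1
      have n1 : (t : ↥G₀) * u ≠ t := fun e => h2 (mul_eq_left.mp e)
      have n2 : (t : ↥G₀) * u ≠ u := fun e => h1 (mul_eq_right.mp e)
      have hset : (four t u : Set ↥G₀) = ↑({1, (t : ↥G₀), (u : ↥G₀), (t : ↥G₀) * u} : Finset ↥G₀) := by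
        ext x; simp [P.mem_four]
      show Nat.card ↥((four t u : Set ↥G₀)) = 4
      rw [hset, Nat.card_coe_set_eq, Set.ncard_coe_finset,
        Finset.card_insert_of_notMem (by simp [h1.symm, h2.symm, h3.symm]),
        Finset.card_insert_of_notMem (by simp [htu_ne, n1.symm]),
        Finset.card_insert_of_notMem (by simp [n2.symm]), Finset.card_singleton]
    subst hL
    show Nat.card ↥(CF t u) = _
    rw [Subgroup.card_eq_card_quotient_mul_card_subgroup (NF t u), Nat.card_congr eU.toEquiv, hN, mul_comm]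
  obtain ⟨r, hr⟩ : ∃ r : ↥G₀, r * (u : ↥G₀) * r⁻¹ = t := by
    have hp : CfsgLib.USixUFour.InP 0 (v u) :=
      (C.kinds hu P.u_sq hu1.1 hu1.2).resolve_right (by rw [hvu]; exact ne_true_of_eq_false line_not_off.2.1)
    obtain ⟨f, hf, ef⟩ := C.to_point hp
    obtain ⟨g, hg⟩ := C.conj_of hu ht (by rw [hvu]; exact w0_ne.2.1) hf (ef.trans hvt.symm)
    exact ⟨g, congrArg Subtype.val hg⟩
  refine ⟨d, u, (t : ↥G₀) * u, Ku, hdG, hd2, hdz, Su, hKuq, hcent, P.u_sq, hu1.1, hLu (hEL _ hE3), ?_, ⟨s, hds, hsu⟩,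
    ⟨r, huw.symm ▸ hr⟩,
    ⟨Kw, Sw, hdKw⟩, ⟨Kt, huw.symm ▸ St, hKtq, hthird⟩,
    L, hLperf, hEL _ hE2, hEL _ hE3, fun l hl => ⟨hLc _ hE2 l hl, hLc _ hE3 l hl⟩, hcard⟩
  exact fun e => (hne t ht (Or.inl hvt)).1 (mul_eq_right.mp e)

theorem outer_m23 {d : X} {u w : ↥G₀} {K : Subgroup ↥G₀} (O : Outer G₀ z d u w K) :
    ∃ t : ↥(G₀ ⊓ Subgroup.centralizer ({d} : Set X)), (t : X) = u ∧ orderOf t = 2 ∧ Cfsg.IsQuasisimple ↥(Subgroup.centralizer ({t} : Set ↥(G₀ ⊓ Subgroup.centralizer ({d} : Set X)))) ∧ (∃ (_ : ((Subgroup.zpowers t).subgroupOf (Subgroup.centralizer ({t} : Set ↥(G₀ ⊓ Subgroup.centralizer ({d} : Set X))))).Normal), (∃ E : Set (↥(Subgroup.centralizer ({t} : Set ↥(G₀ ⊓ Subgroup.centralizer ({d} : Set X)))) ⧸ (Subgroup.zpowers t).subgroupOf (Subgroup.centralizer ({t} : Set ↥(G₀ ⊓ Subgroup.centralizer ({d} : Set X))))), Cfsg.IsThreeTranspositionClass E ∧ Cfsg.IsOfTypeM22 _ E) ∧ InvolFact (↥(Subgroup.centralizer ({t}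 : Set ↥(G₀ ⊓ Subgroup.centralizer ({d} : Set X)))) ⧸ (Subgroup.zpowers t).subgroupOf (Subgroup.centralizer ({t} : Set ↥(G₀ ⊓ Subgroup.centralizer ({d} : Set X)))))) ∧ (∃ g : ↥(G₀ ⊓ Subgroup.centralizer ({d} : Set X)), g * t * g⁻¹ ∈ Subgroup.centralizer ({t} : Set ↥(G₀ ⊓ Subgroup.centralizer ({d} : Set X))) ∧ g * t * g⁻¹ ≠ t) := by
  classical
  haveI := Fact.mk Nat.prime_two
  obtain ⟨g, hdg, hgu⟩ := O.conj
  have huY : (u : X) ∈ G₀ ⊓ Subgroup.centralizer ({d} : Set X) :=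
    ⟨u.2, Subgroup.mem_centralizer_singleton_iff.mpr ((O.cent u).mpr O.shape.mem).1.eq.symm⟩
  have hgY : (g : X) ∈ G₀ ⊓ Subgroup.centralizer ({d} : Set X) :=
    ⟨g.2, Subgroup.mem_centralizer_singleton_iff.mpr hdg.eq.symm⟩
  obtain ⟨t, ht⟩ : ∃ t : ↥(G₀ ⊓ Subgroup.centralizer ({d} : Set X)), t = ⟨_, huY⟩ := ⟨_, rfl⟩
  have htu : (t : X) = u := congrArg Subtype.val ht
  have hmem : ∀ a : ↥(G₀ ⊓ Subgroup.centralizer ({d} : Set X)),
      a ∈ Subgroup.centralizer ({t} : Set ↥(G₀ ⊓ Subgroup.centralizer ({d} : Set X))) ↔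
        (⟨a, a.2.1⟩ : ↥G₀) ∈ K := by
    intro a
    have hda : Commute d (a : X) := (Subgroup.mem_centralizer_singleton_iff.mp a.2.2).symm
    rw [← O.cent, Subgroup.mem_centralizer_singleton_iff]
    constructor
    · intro h
      exact ⟨hda, Subtype.ext (by
        have := congrArg Subtype.val h
        rwa [Subgroup.coe_mul, Subgroup.coe_mul, htu] at this)⟩
    · intro h
      refine Subtype.ext ?_
      rw [Subgroup.coe_mul, Subgroup.coe_mul, htu]
      exact congrArg Subtype.val h.2.eq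
  let ε : ↥(Subgroup.centralizer ({t} : Set ↥(G₀ ⊓ Subgroup.centralizer ({d} : Set X)))) ≃* ↥K :=
    { toFun := fun a => ⟨⟨a.1, a.1.2.1⟩, (hmem a.1).mp a.2⟩
      invFun := fun k => ⟨⟨(k : ↥G₀), ⟨(k : ↥G₀).2,
          Subgroup.mem_centralizer_singleton_iff.mpr ((O.cent k).mpr k.2).1.eq.symm⟩⟩, (hmem _).mpr k.2⟩
      left_inv := fun a => rfl
      right_inv := fun k => rfl
      map_mul' := fun a b => rfl }
  haveI hn := zpowers_normal t
  obtain ⟨π, hs, h1, hK⟩ := O.shape.quot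
  let κ : ↥K →* ↥(Subgroup.centralizer ({u} : Set ↥G₀)) :=
    MonoidHom.mk' (fun k => ⟨k, Subgroup.mem_centralizer_singleton_iff.mpr (O.shape.le k k.2).eq⟩) fun a b => rfl
  let χ : ↥(Subgroup.centralizer ({t} : Set ↥(G₀ ⊓ Subgroup.centralizer ({d} : Set X)))) →*
      ↥(MulAut.conj : Fi22 →* MulAut Fi22).range :=
    (π.comp (κ.comp ε.toMonoidHom)).codRestrict _ fun a => (hK (κ (ε a))).mp (ε a).2
  have hχs : Function.Surjective χ := by
    rintro ⟨b, hb⟩
    obtain ⟨a, rfl⟩ := hs b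
    obtain ⟨a', ha'⟩ := ε.surjective ⟨a, (hK a).mpr hb⟩
    refine ⟨a', Subtype.ext ?_⟩
    show π (κ (ε a')) = π a
    rw [ha']
    rfl
  have hχk : χ.ker = (Subgroup.zpowers t).subgroupOf
      (Subgroup.centralizer ({t} : Set ↥(G₀ ⊓ Subgroup.centralizer ({d} : Set X)))) := by
    ext a
    rw [MonoidHom.mem_ker, Subtype.ext_iff, Subgroup.mem_subgroupOf]
    show π (κ (ε a)) = 1 ↔ _
    rw [h1]
    show (⟨((a : ↥(G₀ ⊓ Subgroup.centralizer ({d} : Set X))) : X), _⟩ : ↥G₀) ∈ Subgroup.zpowers u ↔ _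
    constructor
    · rintro ⟨k, hk⟩
      refine ⟨k, Subtype.ext ?_⟩
      have hk' := congrArg Subtype.val hk
      show ((t ^ k : ↥(G₀ ⊓ Subgroup.centralizer ({d} : Set X))) : X) = _
      rw [Subgroup.coe_zpow, htu, ← Subgroup.coe_zpow]
      exact hk'
    · rintro ⟨k, hk⟩
      refine ⟨k, Subtype.ext ?_⟩
      show ((u ^ k : ↥G₀) : X) = _
      rw [Subgroup.coe_zpow, ← htu, ← Subgroup.coe_zpow]
      exact congrArg Subtype.val hk
  let φ : ↥(Subgroup.centralizer ({t} : Set ↥(G₀ ⊓ Subgroup.centralizer ({d} : Set X)))) ⧸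
      (Subgroup.zpowers t).subgroupOf (Subgroup.centralizer ({t} : Set ↥(G₀ ⊓ Subgroup.centralizer ({d} : Set X)))) ≃*
      Fi22 :=
    ((QuotientGroup.quotientMulEquivOfEq hχk.symm).trans
      (QuotientGroup.quotientKerEquivOfSurjective χ hχs)).trans
      (MonoidHom.ofInjective CfsgLib.Fi22Pres.conj_injective_Fi22).symm
  have ho : orderOf t = 2 := by
    refine orderOf_eq_prime (Subtype.ext ?_) fun e => O.ne (Subtype.ext (htu ▸ congrArg Subtype.val e))
    rw [pow_two, Subgroup.coe_mul, htu]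
    exact congrArg Subtype.val O.two
  have hq := CfsgLib.Layer.isQuasisimple_of_mulEquiv ε.symm O.quasi
  have hnw : ∃ g' : ↥(G₀ ⊓ Subgroup.centralizer ({d} : Set X)), g' * t * g'⁻¹ ∈
      Subgroup.centralizer ({t} : Set ↥(G₀ ⊓ Subgroup.centralizer ({d} : Set X))) ∧ g' * t * g'⁻¹ ≠ t := by
    have e : (g : X) * (t : X) * (g : X)⁻¹ = w := by rw [htu]; exact congrArg Subtype.val hgu
    refine ⟨⟨_, hgY⟩, (hmem _).mpr ?_, fun h => O.ne_w (Subtype.ext ?_)⟩
    · convert O.mem_w using 1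
      exact Subtype.ext e
    · rw [← e, ← htu]
      exact congrArg Subtype.val h
  obtain ⟨E, hE, hEt⟩ := type22 φ.symm
  haveI : Finite (↥(Subgroup.centralizer ({t} : Set ↥(G₀ ⊓ Subgroup.centralizer ({d} : Set X)))) ⧸
      (Subgroup.zpowers t).subgroupOf (Subgroup.centralizer ({t} : Set ↥(G₀ ⊓ Subgroup.centralizer ({d} : Set X))))) :=
    inferInstance
  have hI := invol_fact φ.symm
  exact ⟨t, htu, ho, hq, ⟨hn, ⟨E, hE, hEt⟩, hI⟩, hnw⟩

end CfsgLib.FischerAut
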