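import Cfsg.Agent.Lib.FischerFour.Main
import Cfsg.Agent.Lib.Layer.Basic

/-!
What the extraspecial group gives in the group with `G₀` of index two: elements outside commuting with
the central and the noncentral involutions, and the swap on the four group.
-/

set_option autoImplicit false
set_option linter.style.haveILetI false
set_option maxRecDepth 100000

namespace CfsgLib.FischerAut

open CfsgLib.LargeFischer CfsgLib.Extraspecial CfsgLib.FischerFour
open CfsgLib.Fi22USix (V6 el code vec)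
open CfsgLib.USixUFour (InP)
open scoped Pointwise

variable {X : Type*} [Group X] [Finite X] {G₀ : Subgroup X} {z : ↥G₀} {Q : Subgroup (CZ z)}

theorem QG_le_two (hS : Setting (QG Q) z) [Q.Normal] (P : Sylow 2 ↥G₀)
    (hzc : ∀ x ∈ (P : Subgroup ↥G₀), Commute x z) : QG Q ≤ (P : Subgroup ↥G₀) := by
  haveI := Fact.mk Nat.prime_two
  have hPC : (P : Subgroup ↥G₀) ≤ CZ z := fun x hx => Subgroup.mem_centralizer_singleton_iff.mpr (hzc x hx).eq
  have hQ2 : IsPGroup 2 ↥Q :=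
    (hS.ex.1.1).of_equiv (Q.equivMapOfInjective (CZ z).subtype (Subgroup.subtype_injective _)).symm
  have hle : Q ≤ ((P.subtype hPC : Sylow 2 ↥(CZ z)) : Subgroup ↥(CZ z)) :=
    hQ2.le_sylow_of_normal (P.subtype hPC)
  rintro _ ⟨q, hq, rfl⟩
  exact hle hq

/-- an element outside commuting with the central involution -/
theorem exists_outer_z (hidx : G₀.index = 2) (hS : Setting (QG Q) z) [Q.Normal] (P : Sylow 2 ↥G₀)
    (hzP : z ∈ (P : Subgroup ↥G₀)) (hzc : ∀ x ∈ (P : Subgroup ↥G₀), Commute x z) :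
    ∃ c : X, c ∉ G₀ ∧ Commute c (z : X) := by
  haveI := Fact.mk Nat.prime_two
  haveI := Subgroup.normal_of_index_eq_two hidx
  obtain ⟨x, hx⟩ : ∃ x : X, x ∉ G₀ := by
    by_contra h
    push Not at h
    rw [(Subgroup.eq_top_iff' G₀).mpr h, Subgroup.index_top] at hidx
    norm_num at hidx
  obtain ⟨g, hg⟩ := MulAction.exists_smul_eq ↥G₀ ((MulAut.conjNormal x : MulAut ↥G₀) • P) P
  obtain ⟨w, hw⟩ : ∃ w : ↥G₀, w = g * (MulAut.conjNormal x : MulAut ↥G₀) z * g⁻¹ := ⟨_, rfl⟩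
  have hmem : ∀ a ∈ (P : Subgroup ↥G₀), g * (MulAut.conjNormal x : MulAut ↥G₀) a * g⁻¹ ∈ (P : Subgroup ↥G₀) := by
    intro a ha
    have h1 : (MulAut.conjNormal x : MulAut ↥G₀) a ∈
        (((MulAut.conjNormal x : MulAut ↥G₀) • P : Sylow 2 ↥G₀) : Subgroup ↥G₀) := by
      rw [Sylow.pointwise_smul_def]
      exact Subgroup.smul_mem_pointwise_smul a _ _ ha
    rw [← hg, Sylow.coe_subgroup_smul]
    exact Subgroup.smul_mem_pointwise_smul _ (MulAut.conj g) _ h1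
  have hback : ∀ b ∈ (P : Subgroup ↥G₀), ∃ a ∈ (P : Subgroup ↥G₀),
      g * (MulAut.conjNormal x : MulAut ↥G₀) a * g⁻¹ = b := by
    intro b hb
    have hb' : b ∈ ((g • ((MulAut.conjNormal x : MulAut ↥G₀) • P) : Sylow 2 ↥G₀) : Subgroup ↥G₀) := by
      rw [hg]; exact hb
    rw [Sylow.coe_subgroup_smul, Sylow.pointwise_smul_def] at hb'
    obtain ⟨_, ⟨a, ha, rfl⟩, e⟩ := hb'
    exact ⟨a, ha, e⟩
  have hwP : w ∈ (P : Subgroup ↥G₀) := hw ▸ hmem z hzP
  have hwc : ∀ b ∈ (P : Subgroup ↥G₀), Commute b w := by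
    intro b hb
    obtain ⟨a, ha, rfl⟩ := hback b hb
    rw [hw]
    have h := ((hzc a ha).map (MulAut.conjNormal x : MulAut ↥G₀).toMonoidHom)
    exact (Commute.conj_iff g).mpr h
  have hwQ : w ∈ Subgroup.centralizer (QG Q : Set ↥G₀) :=
    Subgroup.mem_centralizer_iff.mpr fun q hq => (hwc q (QG_le_two hS P hzc hq)).eq
  rw [hS.cQ] at hwQ
  have hwz : w = z := (hS.mem_zpowers hwQ).resolve_left fun e => hS.ne_one (by
    rw [hw, conj_eq_one_iff] at e
    exact (EmbeddingLike.map_eq_one_iff.mp e))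
  refine ⟨(g : X) * x, fun h => hx ?_, ?_⟩
  · have := G₀.mul_mem (G₀.inv_mem g.2) h
    rwa [inv_mul_cancel_left] at this
  · have e := congrArg Subtype.val hwz
    rw [hw] at e
    simp only [Subgroup.coe_mul, Subgroup.coe_inv, MulAut.conjNormal_apply] at e
    show (g : X) * x * z = z * (g * x)
    calc (g : X) * x * z = (g * (x * z * x⁻¹) * (g : X)⁻¹) * (g * x) := by group
      _ = _ := by rw [e]

/-- an element outside commuting with a noncentral involution -/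
theorem exists_outer_t [Q.Normal] {v : CZ z → V6} {ρ : CZ z →* Equiv.Perm V6} {o : Fin 3} (C : Co z Q v ρ o)
    [G₀.Normal] (hex : ∃ g : ↥G₀, g * z * g⁻¹ ∈ QG Q ∧ g * z * g⁻¹ ≠ z)
    (hFX : (Cfsg.generalizedFittingSubgroup ↥(Subgroup.centralizer ({(z : X)} : Set X))).map (Subgroup.subtype _) =
      (QG Q).map G₀.subtype)
    {c : X} (hc : c ∉ G₀) (hcz : Commute c (z : X)) {t : CZ z} (ht : t ∈ Q) (ht2 : orderOf t = 2)
    (hnc : ¬ IsConj z (t : ↥G₀)) : ∃ c' : X, c' ∉ G₀ ∧ Commute c' ((t : ↥G₀) : X) := by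
  have hcm : c ∈ Subgroup.centralizer ({(z : X)} : Set X) := Subgroup.mem_centralizer_singleton_iff.mpr hcz.eq
  obtain ⟨s, hs⟩ : ∃ s : ↥G₀, s = MulAut.conjNormal c (t : ↥G₀) := ⟨_, rfl⟩
  have hsQ : s ∈ QG Q := by
    have h0 : ((t : ↥G₀) : X) ∈ (QG Q).map G₀.subtype := ⟨_, mem_QG ht, rfl⟩
    rw [← hFX] at h0
    obtain ⟨a, ha, ea⟩ := h0
    have h1 : c * ((t : ↥G₀) : X) * c⁻¹ ∈ (QG Q).map G₀.subtype := by
      rw [← hFX, ← ea]
      exact ⟨⟨c, hcm⟩ * a * ⟨c, hcm⟩⁻¹,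
        (CfsgLib.Layer.generalizedFitting_normal).conj_mem a ha _, rfl⟩
    obtain ⟨q, hq, eq⟩ := h1
    rwa [hs, show (MulAut.conjNormal c) (t : ↥G₀) = q from Subtype.ext (by rw [MulAut.conjNormal_apply]; exact eq.symm)]
  obtain ⟨s', hs', es'⟩ := hsQ
  replace es' : (s' : ↥G₀) = s := es'
  have hnc' : ¬ IsConj z (s' : ↥G₀) := by
    rw [es', hs]
    intro h
    obtain ⟨g, hg⟩ := isConj_iff.mp h
    refine hnc (isConj_iff.mpr ⟨(MulAut.conjNormal c : MulAut ↥G₀).symm g, Subtype.ext ?_⟩)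
    have e := congrArg Subtype.val hg
    simp only [Subgroup.coe_mul, Subgroup.coe_inv, MulAut.conjNormal_apply] at e
    simp only [Subgroup.coe_mul, Subgroup.coe_inv, MulAut.conjNormal_symm_apply]
    have hz' : c * (z : X) * c⁻¹ = z := by rw [hcz.eq, mul_inv_cancel_right]
    calc c⁻¹ * (g : X) * c * z * (c⁻¹ * (g : X) * c)⁻¹ = c⁻¹ * ((g : X) * (c * z * c⁻¹) * (g : X)⁻¹) * c := by group
      _ = _ := by rw [hz', e]; group
  have hs2 : orderOf s' = 2 := by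
    rw [← Subgroup.orderOf_coe, es', hs, MulEquiv.orderOf_eq, Subgroup.orderOf_coe, ht2]
  have hP1 := C.point_of_not_conj hex ht ht2 hnc
  have hP2 := C.point_of_not_conj hex hs' hs2 hnc'
  obtain ⟨f, hf, ef⟩ := C.to_point hP1
  obtain ⟨f', hf', ef'⟩ := C.to_point hP2
  obtain ⟨h, hh⟩ := C.conj_of hs' ht (inP_iso hP2).2 (mul_mem (inv_mem hf) hf')
    (by rw [Equiv.Perm.mul_apply, ef', ← ef, Equiv.Perm.coe_inv, Equiv.symm_apply_apply])
  refine ⟨((h : ↥G₀) : X) * c, fun hm => hc ?_, ?_⟩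
  · have := G₀.mul_mem (G₀.inv_mem (h : ↥G₀).2) hm
    rwa [inv_mul_cancel_left] at this
  · have e := congrArg (fun a : CZ z => ((a : ↥G₀) : X)) hh
    simp only [Subgroup.coe_mul, Subgroup.coe_inv, es', hs, MulAut.conjNormal_apply] at e
    show ((h : ↥G₀) : X) * c * (t : ↥G₀) = (t : ↥G₀) * (((h : ↥G₀) : X) * c)
    calc ((h : ↥G₀) : X) * c * (t : ↥G₀) =
        (((h : ↥G₀) : X) * (c * ((t : ↥G₀) : X) * c⁻¹) * ((h : ↥G₀) : X)⁻¹) * (((h : ↥G₀) : X) * c) := by group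
      _ = _ := by rw [e]

theorem swap_table : oF 2 v0 = v0 ∧ oF 2 w0 = v0 + w0 := by decide +kernel

omit [Finite X] in
/-- the swap of the two other members of the four group -/
theorem exists_swap {G : Type*} [Group G] [Finite G] {z : G} {Q : Subgroup (CZ z)} [Q.Normal]
    {v : CZ z → V6} {ρ : CZ z →* Equiv.Perm V6} {C : Co z Q v ρ 2} {t u : CZ z} (P : Pt C t u) :
    ∃ c : G, c * (t : G) * c⁻¹ = t ∧ c * (u : G) * c⁻¹ = (t : G) * u := by
  obtain ⟨e1, e2⟩ := swap_table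
  obtain ⟨h, hρ, hh⟩ := C.fix_lift (f := oP 2) P.ht (by rw [P.hvt]; exact v0_spec.2.2.1)
    ⟨C.shape.oP_mem, by rw [P.hvt]; exact (oP_apply _ _).trans e1⟩
  have hht : (h : G) * t * (h : G)⁻¹ = t := congrArg Subtype.val hh
  have hu' := (inferInstance : Q.Normal).conj_mem u P.hu h
  have hv : v (h * u * h⁻¹) = v (t * u) := by
    rw [C.vconj h u P.hu, C.vmul t P.ht u P.hu, hρ, P.hvt, P.hvu, oP_apply, e2]
  rcases C.eq_cases (mul_mem P.ht P.hu) hu' hv.symm with e | e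
  · exact ⟨h, hht, e⟩
  obtain ⟨q, hq, eq⟩ := C.vsurj (vec 1)
  obtain ⟨s1, s2⟩ := split_vec
  have hqt : (t : G) * q = q * t := (comm_iff C P.ht hq).mpr (by rw [P.hvt, eq]; exact s1)
  have hqu : (q : G) * u * (q : G)⁻¹ = z * u :=
    (C.st.comm_cases (mem_QG hq) (mem_QG P.hu)).resolve_left fun e' =>
      absurd ((comm_iff C P.hu hq).mp (mul_inv_eq_iff_eq_mul.mp e').symm)
        (by rw [P.hvu, eq, s2]; exact Bool.noConfusion)
  have hqz : (q : G) * z * (q : G)⁻¹ = z := by rw [C.st.z_comm (mem_QG hq), mul_inv_cancel_right]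
  have hqt' : (q : G) * t * (q : G)⁻¹ = t := by rw [← hqt, mul_inv_cancel_right]
  refine ⟨(q : G) * h, ?_, ?_⟩
  · calc (q : G) * h * t * ((q : G) * h)⁻¹ = q * ((h : G) * t * (h : G)⁻¹) * (q : G)⁻¹ := by group
      _ = _ := by rw [hht, hqt']
  · have e' : (h : G) * u * (h : G)⁻¹ = z * ((t : G) * u) := e
    calc (q : G) * h * u * ((q : G) * h)⁻¹ = q * ((h : G) * u * (h : G)⁻¹) * (q : G)⁻¹ := by group
      _ = ((q : G) * z * (q : G)⁻¹) * ((q * t * (q : G)⁻¹) * (q * u * (q : G)⁻¹)) := by rw [e']; group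
      _ = _ := by
        rw [hqz, hqt', hqu, ← mul_assoc (t : G), C.st.z_comm (mem_QG P.ht), ← mul_assoc z, ← mul_assoc z, C.st.zz,
          one_mul]

end CfsgLib.FischerAut
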