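import Mathlib
import Cfsg.Agent.Lib.Fi22Pres.AutPerm

/-!
An element outside the index two subgroup centralising the quasisimple part of an involution
centraliser.
-/

set_option autoImplicit false
set_option linter.style.haveILetI false

namespace CfsgLib.FischerAut

open Cfsg.Spor (Fi22)

variable {X : Type*} [Group X] {G₀ : Subgroup X}

/-- what the statement about the centraliser of the noncentral involution gives -/
structure Shape (e : ↥G₀) (K : Subgroup ↥G₀) : Prop where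
  le : ∀ k ∈ K, Commute k e
  mem : e ∈ K
  perfect : ⁅K, K⁆ = K
  two : ∀ a b : ↥G₀, Commute a e → Commute b e → a ∉ K → b ∉ K → a * b ∈ K
  quot : ∃ π : ↥(Subgroup.centralizer ({e} : Set ↥G₀)) →* MulAut Fi22, Function.Surjective π ∧
    (∀ a : ↥(Subgroup.centralizer ({e} : Set ↥G₀)), π a = 1 ↔ (a : ↥G₀) ∈ Subgroup.zpowers e) ∧
    ∀ a : ↥(Subgroup.centralizer ({e} : Set ↥G₀)), (a : ↥G₀) ∈ K ↔ π a ∈ (MulAut.conj : Fi22 →* MulAut Fi22).range

variable {e : ↥G₀} {K : Subgroup ↥G₀} (S : Shape e K)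
include S

theorem Shape.ord (h2 : e * e = 1) {x : ↥G₀} (hx : x ∈ Subgroup.zpowers e) : x = 1 ∨ x = e := by
  obtain ⟨n, rfl⟩ := Subgroup.mem_zpowers_iff.mp hx
  rcases Int.even_or_odd' n with ⟨m, rfl | rfl⟩
  · exact Or.inl (by rw [zpow_mul, zpow_two, h2, one_zpow])
  · exact Or.inr (by rw [zpow_add, zpow_mul, zpow_two, h2, one_zpow, one_mul, zpow_one])

/-- commutators of elements commuting with `e` lie in `K` -/
theorem Shape.conj_mem {g k : ↥G₀} (hg : Commute g e) (hk : k ∈ K) : g * k * g⁻¹ ∈ K := by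
  obtain ⟨π, -, -, hK⟩ := S.quot
  have hgc : g ∈ Subgroup.centralizer ({e} : Set ↥G₀) := Subgroup.mem_centralizer_singleton_iff.mpr hg.eq
  have hkc : k ∈ Subgroup.centralizer ({e} : Set ↥G₀) := Subgroup.mem_centralizer_singleton_iff.mpr (S.le k hk).eq
  refine (hK (⟨g, hgc⟩ * ⟨k, hkc⟩ * ⟨g, hgc⟩⁻¹)).mpr ?_
  obtain ⟨x, hx⟩ := (hK ⟨k, hkc⟩).mp hk
  rw [map_mul, map_mul, map_inv, ← hx]
  exact ⟨π ⟨g, hgc⟩ x, (CfsgLib.Fi22Pres.conj_apply_eq _ _).symm⟩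

/-- an element centralising `K` inside the subgroup is in `⟨e⟩` -/
theorem Shape.cent {x : ↥G₀} (hx : ∀ k ∈ K, Commute x k) : x ∈ Subgroup.zpowers e := by
  obtain ⟨π, hs, h1, hK⟩ := S.quot
  have hxc : x ∈ Subgroup.centralizer ({e} : Set ↥G₀) :=
    Subgroup.mem_centralizer_singleton_iff.mpr (hx e S.mem).eq
  refine (h1 ⟨x, hxc⟩).mp (MulEquiv.ext fun a => ?_)
  obtain ⟨k, hk⟩ := hs (MulAut.conj a)
  have hkK : (k : ↥G₀) ∈ K := (hK k).mpr ⟨a, hk.symm⟩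
  have e1 : (⟨x, hxc⟩ : ↥(Subgroup.centralizer ({e} : Set ↥G₀))) * k = k * ⟨x, hxc⟩ := Subtype.ext (hx _ hkK).eq
  have e2 := congrArg π e1
  rw [map_mul, map_mul, hk] at e2
  refine CfsgLib.Fi22Pres.conj_injective_Fi22 ?_
  rw [← CfsgLib.Fi22Pres.conj_apply_eq, e2, mul_inv_cancel_right]
  rfl

/-- an element outside centralising `K` -/
theorem Shape.exists_outer [hn : G₀.Normal] (h2 : e * e = 1) {c : X} (hc : c ∉ G₀) (hce : Commute c (e : X)) :
    ∃ d : X, d ∉ G₀ ∧ ∀ k ∈ K, Commute d (k : X) := by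
  classical
  obtain ⟨π, hs, h1, hK⟩ := S.quot
  obtain ⟨ψ, hψ⟩ : ∃ ψ : ↥G₀ ≃* ↥G₀, ψ = MulAut.conjNormal c := ⟨_, rfl⟩
  have hψv : ∀ a : ↥G₀, (ψ a : X) = c * a * c⁻¹ := fun a => by rw [hψ]; exact MulAut.conjNormal_apply c a
  have hψe : ψ e = e := Subtype.ext (by rw [hψv, hce.eq, mul_inv_cancel_right])
  have hψc : ∀ a : ↥G₀, a ∈ Subgroup.centralizer ({e} : Set ↥G₀) ↔ ψ a ∈ Subgroup.centralizer ({e} : Set ↥G₀) :=
    fun a => by
      rw [Subgroup.mem_centralizer_singleton_iff, Subgroup.mem_centralizer_singleton_iff, ← ψ.injective.eq_iff,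
        map_mul, map_mul, hψe]
  -- the image of `K` is `K`
  have hmap : K.map ψ.toMonoidHom ≤ K := by
    have hp : ⁅K.map ψ.toMonoidHom, K.map ψ.toMonoidHom⁆ = K.map ψ.toMonoidHom := by
      rw [← Subgroup.map_commutator, S.perfect]
    rw [← hp, Subgroup.commutator_le]
    rintro _ ⟨a, ha, rfl⟩ _ ⟨b, hb, rfl⟩
    show ψ a * ψ b * (ψ a)⁻¹ * (ψ b)⁻¹ ∈ K
    have ca : Commute (ψ a) e := by
      have := (S.le a ha).map ψ.toMonoidHom
      rwa [MulEquiv.coe_toMonoidHom, hψe] at this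
    have cb : Commute (ψ b) e := by
      have := (S.le b hb).map ψ.toMonoidHom
      rwa [MulEquiv.coe_toMonoidHom, hψe] at this
    have hcomm : ∀ A B : MulAut Fi22, A * B * A⁻¹ * B⁻¹ ∈ (MulAut.conj : Fi22 →* MulAut Fi22).range := by
      intro A B
      have hi := CfsgLib.Fi22Pres.inner_index
      rw [Subgroup.mul_mem_iff_of_index_two hi, Subgroup.mul_mem_iff_of_index_two hi,
        Subgroup.mul_mem_iff_of_index_two hi, inv_mem_iff, inv_mem_iff]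
      tauto
    have hac := Subgroup.mem_centralizer_singleton_iff.mpr ca.eq
    have hbc := Subgroup.mem_centralizer_singleton_iff.mpr cb.eq
    refine (hK (⟨ψ a, hac⟩ * ⟨ψ b, hbc⟩ * ⟨ψ a, hac⟩⁻¹ * ⟨ψ b, hbc⟩⁻¹)).mpr ?_
    simp only [map_mul, map_inv]
    exact hcomm _ _
  -- the induced automorphism of Fi22
  have hex : ∀ a : Fi22, ∃ k : ↥(Subgroup.centralizer ({e} : Set ↥G₀)), (k : ↥G₀) ∈ K ∧ π k = MulAut.conj a :=
    fun a => by
      obtain ⟨k, hk⟩ := hs (MulAut.conj a)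
      exact ⟨k, (hK k).mpr ⟨a, hk.symm⟩, hk⟩
  choose k hkK hk using hex
  have himg : ∀ a : Fi22, ∃ b : Fi22, π ⟨ψ (k a), (hψc _).mp (k a).2⟩ = MulAut.conj b := fun a => by
    obtain ⟨b, hb⟩ := (hK ⟨ψ (k a), (hψc _).mp (k a).2⟩).mp (hmap ⟨_, hkK a, rfl⟩)
    exact ⟨b, hb.symm⟩
  choose α hα using himg
  have hind : ∀ (a : Fi22) (x : ↥(Subgroup.centralizer ({e} : Set ↥G₀))), π x = MulAut.conj a →
      π ⟨ψ x, (hψc _).mp x.2⟩ = MulAut.conj (α a) := by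
    intro a x hx
    have h0 : π (x * (k a)⁻¹) = 1 := by rw [map_mul, map_inv, hx, hk, mul_inv_cancel]
    rw [← hα]
    have he : ψ ((x : ↥G₀) * ((k a : ↥G₀))⁻¹) = x * (k a : ↥G₀)⁻¹ := by
      rcases S.ord h2 ((h1 _).mp h0) with e1 | e1
      · replace e1 : (x : ↥G₀) * (k a : ↥G₀)⁻¹ = 1 := e1
        rw [e1, map_one]
      · replace e1 : (x : ↥G₀) * (k a : ↥G₀)⁻¹ = e := e1
        rw [e1, hψe]
    have : (⟨ψ x, (hψc _).mp x.2⟩ : ↥(Subgroup.centralizer ({e} : Set ↥G₀))) =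
        x * (k a)⁻¹ * ⟨ψ (k a), (hψc _).mp (k a).2⟩ := Subtype.ext (by
      show ψ x = (x : ↥G₀) * (k a : ↥G₀)⁻¹ * ψ (k a)
      rw [← he, ← map_mul, inv_mul_cancel_right])
    rw [this, map_mul, h0, one_mul]
  have hmul : ∀ a b, α (a * b) = α a * α b := fun a b => CfsgLib.Fi22Pres.conj_injective_Fi22 (by
    rw [map_mul, ← hind (a * b) (k a * k b) (by rw [map_mul, hk, hk, map_mul]), ← hind a (k a) (hk a),
      ← hind b (k b) (hk b), ← map_mul]
    exact congrArg π (Subtype.ext (map_mul ψ _ _)))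
  have hinj : Function.Injective α := by
    intro a b hab
    have h0 : π ((⟨ψ (k a), (hψc _).mp (k a).2⟩ : ↥(Subgroup.centralizer ({e} : Set ↥G₀))) *
        ⟨ψ (k b), (hψc _).mp (k b).2⟩⁻¹) = 1 := by rw [map_mul, map_inv, hα, hα, hab, mul_inv_cancel]
    have h3 : ψ ((k a : ↥G₀) * (k b : ↥G₀)⁻¹) ∈ Subgroup.zpowers e := by
      have := (h1 _).mp h0
      rw [map_mul, map_inv]
      exact this
    have h4 : π (k a * (k b)⁻¹) = 1 := (h1 _).mpr (by
      rcases S.ord h2 h3 with e1 | e1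
      · show (k a : ↥G₀) * (k b : ↥G₀)⁻¹ ∈ _
        rw [ψ.injective (e1.trans (map_one ψ).symm)]
        exact one_mem _
      · show (k a : ↥G₀) * (k b : ↥G₀)⁻¹ ∈ _
        rw [ψ.injective (e1.trans hψe.symm)]
        exact Subgroup.mem_zpowers e)
    rw [map_mul, map_inv, hk, hk, mul_inv_eq_one] at h4
    exact CfsgLib.Fi22Pres.conj_injective_Fi22 h4
  haveI : Finite Fi22 := CfsgLib.Fi22Pres.finite_and_card.1
  let A : MulAut Fi22 := MulEquiv.ofBijective (MonoidHom.mk' α hmul)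
    ⟨hinj, (Finite.injective_iff_surjective.mp hinj)⟩
  obtain ⟨h, hh⟩ := hs A
  refine ⟨((h : ↥G₀) : X)⁻¹ * c, fun hm => hc ?_, fun x hx => ?_⟩
  · have := G₀.mul_mem (h : ↥G₀).2 hm
    rwa [mul_inv_cancel_left] at this
  -- the commutator with a member of `K` lies in the centre
  have hcen : ∀ y ∈ K, (h : ↥G₀)⁻¹ * ψ y * h = y ∨ (h : ↥G₀)⁻¹ * ψ y * h = e * y := by
    intro y hy
    have hyc : y ∈ Subgroup.centralizer ({e} : Set ↥G₀) :=
      Subgroup.mem_centralizer_singleton_iff.mpr (S.le y hy).eq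
    obtain ⟨a, ha⟩ := (hK ⟨y, hyc⟩).mp hy
    have h0 : π (h⁻¹ * ⟨ψ y, (hψc _).mp hyc⟩ * h * ⟨y, hyc⟩⁻¹) = 1 := by
      rw [map_mul, map_mul, map_mul, map_inv, map_inv, hind a ⟨y, hyc⟩ ha.symm, hh, ← ha,
        show α a = A a from rfl, ← CfsgLib.Fi22Pres.conj_apply_eq]
      group
    rcases S.ord h2 ((h1 _).mp h0) with e1 | e1
    · exact Or.inl (mul_inv_eq_one.mp (show (h : ↥G₀)⁻¹ * ψ y * h * y⁻¹ = 1 from e1))
    · exact Or.inr (mul_inv_eq_iff_eq_mul.mp (show (h : ↥G₀)⁻¹ * ψ y * h * y⁻¹ = e from e1))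
  -- an order two valued homomorphism on a perfect group is trivial
  have hfix : ∀ y ∈ K, (h : ↥G₀)⁻¹ * ψ y * h = y := by
    let P : Subgroup ↥G₀ :=
      { carrier := {y | (h : ↥G₀)⁻¹ * ψ y * h = y}
        mul_mem' := fun {a b} ha hb => by
          show _ = _
          rw [map_mul, ← congrArg₂ (· * ·) ha hb]; group
        one_mem' := by show _ = _; rw [map_one]; group
        inv_mem' := fun {a} ha => by
          show _ = _
          rw [map_inv, ← congrArg (·⁻¹) (ha : _ = a)]; group }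
    suffices K ≤ P from fun y hy => this hy
    rw [← S.perfect, Subgroup.commutator_le]
    intro a ha b hb
    show (h : ↥G₀)⁻¹ * ψ (a * b * a⁻¹ * b⁻¹) * h = a * b * a⁻¹ * b⁻¹
    have he1 : e⁻¹ = e := inv_eq_of_mul_eq_one_right h2
    have hea : ∀ q ∈ K, e * q = q * e := fun q hq => (S.le q hq).eq.symm
    rw [show (h : ↥G₀)⁻¹ * ψ (a * b * a⁻¹ * b⁻¹) * h = ((h : ↥G₀)⁻¹ * ψ a * h) * ((h : ↥G₀)⁻¹ * ψ b * h) *
      ((h : ↥G₀)⁻¹ * ψ a * h)⁻¹ * ((h : ↥G₀)⁻¹ * ψ b * h)⁻¹ by simp only [map_mul, map_inv]; group]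
    rcases hcen a ha with ea | ea <;> rcases hcen b hb with eb | eb <;> rw [ea, eb]
    · rw [mul_inv_rev, he1, ← mul_assoc a e b, ← hea a ha,
        show e * a * b * a⁻¹ * (b⁻¹ * e) = e * (a * b * a⁻¹ * b⁻¹) * e by group,
        hea _ (mul_mem (mul_mem (mul_mem ha hb) (inv_mem ha)) (inv_mem hb)), mul_assoc, h2, mul_one]
    · rw [mul_inv_rev, he1, ← hea _ (inv_mem ha),
        show e * a * b * (e * a⁻¹) * b⁻¹ = e * ((a * b) * e) * a⁻¹ * b⁻¹ by group,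
        ← hea _ (mul_mem ha hb), ← mul_assoc e e, h2, one_mul]
    · rw [mul_inv_rev, mul_inv_rev, he1,
        show e * a * (e * b) * (a⁻¹ * e) * (b⁻¹ * e) = e * (a * e) * b * a⁻¹ * (e * b⁻¹) * e by group,
        ← hea a ha, ← mul_assoc e e a, h2, one_mul, hea _ (inv_mem hb), ← mul_assoc,
        mul_assoc (a * b * a⁻¹ * b⁻¹) e e, h2, mul_one]
  show ((h : ↥G₀) : X)⁻¹ * c * x = x * (((h : ↥G₀) : X)⁻¹ * c)
  have h5 := congrArg Subtype.val (hfix x hx)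
  simp only [Subgroup.coe_mul, Subgroup.coe_inv, hψv] at h5
  calc ((h : ↥G₀) : X)⁻¹ * c * x = (((h : ↥G₀) : X)⁻¹ * (c * (x : X) * c⁻¹) * ((h : ↥G₀) : X)) *
        (((h : ↥G₀) : X)⁻¹ * c) := by group
    _ = _ := by rw [h5]

end CfsgLib.FischerAut
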